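import Cfsg.Agent.H567.Sd.Tools
import Cfsg.Agent.H867.Max.MTwentyTwo
import Cfsg.Agent.H867.Max.MTwentyFour
import Cfsg.Agent.H875.AbMathieu
import Cfsg.Agent.S0381
import Cfsg.Agent.NotCT.Orders
import Cfsg.Agent.SporadicA.GolayBase

/-!
# S4579: `Elem` for `M₂₂`, `M₂₃`, `M₂₄` (helper567)

The stabilizer of an octad is `2⁴ : A₈` in `M₂₄` and `2⁴ : A₆` in `M₂₂`; `M₂₂` has index 23 in `M₂₃`.
-/

set_option autoImplicit false

namespace Cfsg.Agent.H567.Sd

open Subgroup Cfsg
open scoped Pointwise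
open Cfsg.Agent.H643.Sd

universe u

theorem inv_self {α : Type*} (σ : Equiv.Perm α) (x : α) : σ⁻¹ (σ x) = x := σ.symm_apply_apply x

theorem self_inv {α : Type*} (σ : Equiv.Perm α) (x : α) : σ (σ⁻¹ x) = x := σ.apply_symm_apply x

theorem card24 : Fintype.card GolayPt = 24 := H875.AbMathieu.card24

/-- a permutation in `M24` which fixes more than eight points and has square 1 is trivial -/
theorem eq_one_of_fix {σ : Equiv.Perm GolayPt} (hσ : σ ∈ M24) (h2 : σ * σ = 1) {o : Finset GolayPt}
    (ho : o.card = 8) (hf : ∀ p ∈ o, σ p = p) {q : GolayPt} (hq : q ∉ o) (hfq : σ q = q) : σ = 1 := by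
  classical
  by_contra h1
  have h3 : orderOf σ = 2 := orderOf_eq_prime (by rw [pow_two]; exact h2) h1
  have h4 := H875.AbMathieu.fix_le hσ (by rw [h3]; exact Nat.prime_two)
  have h5 : (insert q o).card ≤ (Finset.univ.filter fun p : GolayPt => σ p = p).card := by
    apply Finset.card_le_card
    intro p hp
    rw [Finset.mem_filter]
    refine ⟨Finset.mem_univ _, ?_⟩
    rcases Finset.mem_insert.1 hp with rfl | hp
    · exact hfq
    · exact hf p hp
  rw [Finset.card_insert_of_notMem hq, ho] at h5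
  omega

theorem elem_of_octad {H : Type u} [Group H] [Finite H] (ψ : H →* Equiv.Perm GolayPt) (hψ : Function.Injective ψ)
    (hM : ∀ h, ψ h ∈ M24) {o : Finset GolayPt} (ho8 : o ∈ octads) (ho : ∀ h p, p ∈ o → ψ h p ∈ o)
    (s : Finset GolayPt) (hfix : ∀ h, ∀ p ∈ o, p ∉ s → ψ h p = p) (hs : s ⊆ o)
    (hE : ∀ σ ∈ M24, (∀ p ∈ o, σ p = p) → ∃ h, ψ h = σ)
    (hcard : 2 * Nat.card H = 16 * s.card.factorial) : Elem H := by
  classical
  have hoc : o.card = 8 := ho8.2
  have ho' : ∀ h p, ψ h p ∈ o ↔ p ∈ o := by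
    intro h p
    refine ⟨fun hp => ?_, ho h p⟩
    have h1 := ho h⁻¹ _ hp
    rwa [map_inv, inv_self] at h1
  -- the normal subgroup `2⁴`
  let E : Subgroup H :=
    { carrier := {h | ∀ p ∈ o, ψ h p = p}
      one_mem' := fun p _ => by rw [map_one]; rfl
      mul_mem' := by
        intro a b ha hb p hp
        rw [map_mul, Equiv.Perm.mul_apply, hb p hp, ha p hp]
      inv_mem' := by
        intro a ha p hp
        rw [map_inv, Equiv.Perm.inv_eq_iff_eq, ha p hp] }
  have hmE : ∀ h : H, h ∈ E ↔ ∀ p ∈ o, ψ h p = p := fun h => Iff.rfl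
  have hEn : E.Normal := by
    constructor
    intro e he h p hp
    have h1 : ψ h⁻¹ p ∈ o := ho _ _ hp
    rw [map_mul, map_mul, Equiv.Perm.mul_apply, Equiv.Perm.mul_apply, he _ h1, map_inv, self_inv]
  have hEM : ∀ e ∈ E, ψ e ∈ M24 ⊓ fixingSubgroup (Equiv.Perm GolayPt) (o : Set GolayPt) := by
    intro e he
    refine ⟨hM e, (mem_fixingSubgroup_iff _).2 ?_⟩
    intro p hp
    exact he p hp
  have hE2 : ∀ e ∈ E, e * e = 1 := by
    intro e he
    apply hψ
    rw [map_mul, map_one]
    exact (S0381.result o ho8).2 _ (hEM e he)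
  have hcE : Nat.card E = 16 := by
    rw [← (S0381.result o ho8).1]
    refine Nat.card_congr (Equiv.ofBijective (fun e : E => ⟨ψ e, hEM e e.2⟩) ⟨?_, ?_⟩)
    · intro a b hab
      exact Subtype.ext (hψ (congrArg Subtype.val hab))
    · rintro ⟨σ, hσ, hσo'⟩
      have hσo := (mem_fixingSubgroup_iff _).1 hσo'
      obtain ⟨h, hh⟩ := hE σ hσ (fun p hp => hσo p hp)
      exact ⟨⟨h, fun p hp => by rw [hh]; exact hσo p hp⟩, Subtype.ext hh⟩
  -- a point outside of the octad
  obtain ⟨q, hq⟩ : ∃ q : GolayPt, q ∉ o := by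
    by_contra hcon
    push Not at hcon
    have h1 : o = Finset.univ := Finset.eq_univ_iff_forall.2 hcon
    rw [h1, Finset.card_univ, card24] at hoc
    omega
  let X : Subgroup H :=
    { carrier := {h | ψ h q = q}
      one_mem' := by
        change ψ 1 q = q
        rw [map_one]
        rfl
      mul_mem' := by
        intro a b ha hb
        change ψ (a * b) q = q
        rw [map_mul, Equiv.Perm.mul_apply, hb, ha]
      inv_mem' := by
        intro a ha
        change ψ a⁻¹ q = q
        rw [map_inv, Equiv.Perm.inv_eq_iff_eq, ha] }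
  have hmX : ∀ h : H, h ∈ X ↔ ψ h q = q := fun h => Iff.rfl
  have hEX : ∀ h : H, h ∈ E → h ∈ X → h = 1 := by
    intro h h1 h2
    apply hψ
    rw [map_one]
    exact eq_one_of_fix (hM h) (by rw [← map_mul, hE2 h h1, map_one]) hoc h1 hq h2
  -- `E` is transitive outside of the octad
  have htr : ∀ r : GolayPt, r ∉ o → ∃ e ∈ E, ψ e q = r := by
    have h1 : Function.Injective (fun e : E => (⟨ψ e q, fun h => hq ((ho' e q).1 h)⟩ : {r : GolayPt // r ∉ o})) := by
      intro a b hab
      have h2 : ψ (a : H) q = ψ (b : H) q := congrArg Subtype.val hab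
      have h3 : ψ ((b : H)⁻¹ * a) q = q := by
        rw [map_mul, Equiv.Perm.mul_apply, h2, map_inv, inv_self]
      have h4 := hEX _ (E.mul_mem (E.inv_mem b.2) a.2) h3
      exact Subtype.ext (inv_mul_eq_one.1 h4).symm
    have : Fintype E := Fintype.ofFinite _
    have h2 : Fintype.card E = Fintype.card {r : GolayPt // r ∉ o} := by
      rw [← Nat.card_eq_fintype_card, hcE, Fintype.card_subtype_compl, Fintype.card_coe, hoc, card24]
    have h3 := (Fintype.bijective_iff_injective_and_card _).2 ⟨h1, h2⟩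
    intro r hr
    obtain ⟨e, he⟩ := h3.2 ⟨r, hr⟩
    exact ⟨e, e.2, congrArg Subtype.val he⟩
  have hsplit : ∀ g : H, ∃ e ∈ E, ∃ x ∈ X, g = e * x := by
    intro g
    obtain ⟨e, he, heq⟩ := htr (ψ g q) (fun h => hq ((ho' g q).1 h))
    refine ⟨e, he, e⁻¹ * g, ?_, by group⟩
    rw [hmX, map_mul, Equiv.Perm.mul_apply, ← heq, map_inv, inv_self]
  refine elem_of_split E X hE2 hsplit ?_
  -- the order of `X`
  have hcX : 2 * Nat.card X = s.card.factorial := by
    have h1 : Nat.card H = Nat.card E * Nat.card X := by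
      rw [← Nat.card_prod]
      refine (Nat.card_congr (Equiv.ofBijective (fun a : E × X => (a.1 : H) * (a.2 : H)) ⟨?_, ?_⟩)).symm
      · rintro ⟨a, b⟩ ⟨c, d⟩ h
        change (a : H) * b = c * d at h
        have h2 : (c : H)⁻¹ * a = d * (b : H)⁻¹ := by
          rw [inv_mul_eq_iff_eq_mul, ← mul_assoc, ← h, mul_inv_cancel_right]
        have h3 := hEX ((c : H)⁻¹ * a) (E.mul_mem (E.inv_mem c.2) a.2) (by
          rw [h2]
          exact X.mul_mem d.2 (X.inv_mem b.2))
        have h4 : (c : H) = a := inv_mul_eq_one.1 h3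
        have h5 : (d : H) = b := by
          rw [h3] at h2
          exact (mul_inv_eq_one.1 h2.symm)
        exact Prod.ext (Subtype.ext h4.symm) (Subtype.ext h5.symm)
      · intro g
        obtain ⟨e, he, x, hx, rfl⟩ := hsplit g
        exact ⟨(⟨e, he⟩, ⟨x, hx⟩), rfl⟩
    rw [h1, hcE] at hcard
    omega
  -- the action on `s`
  have hsX : ∀ (x : X) (p : GolayPt), ψ x p ∈ s ↔ p ∈ s := by
    have key : ∀ (x : X) (p : GolayPt), p ∈ s → ψ x p ∈ s := by
      intro x p hp
      by_contra hn
      have h1 : ψ (x : H) p ∈ o := ho _ _ (hs hp)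
      have h2 := hfix x _ h1 hn
      exact hn (by rw [(ψ (x : H)).injective h2]; exact hp)
    intro x p
    refine ⟨fun hp => ?_, key x p⟩
    have h1 := key x⁻¹ _ hp
    rwa [InvMemClass.coe_inv, map_inv, inv_self] at h1
  let ρ : X →* Equiv.Perm {p : GolayPt // p ∈ s} :=
    { toFun := fun x => (ψ x).subtypePerm (hsX x)
      map_one' := by
        refine Equiv.ext fun p => Subtype.ext ?_
        change ψ (1 : H) p = p
        rw [map_one]
        rfl
      map_mul' := by
        intro a b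
        refine Equiv.ext fun p => Subtype.ext ?_
        change ψ ((a : H) * b) p = ψ a (ψ b p)
        rw [map_mul]
        rfl }
  have hρ : Function.Injective ρ := by
    rw [injective_iff_map_eq_one]
    intro x hx
    apply Subtype.ext
    refine hEX _ ?_ x.2
    intro p hp
    by_cases hps : p ∈ s
    · have h1 := congrArg (fun σ : Equiv.Perm {p : GolayPt // p ∈ s} => ((σ ⟨p, hps⟩ : {p : GolayPt // p ∈ s}) : GolayPt)) hx
      simpa [ρ] using h1
    · exact hfix x p hp hps
  have e : {p : GolayPt // p ∈ s} ≃ Fin s.card := s.equivFin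
  exact elem_of_perm hcX (e.permCongrHom.toMonoidHom.comp ρ) (by
    exact e.permCongrHom.injective.comp hρ)

/-- an octad which contains the two base points -/
theorem exists_hexad : ∃ o : Finset GolayPt, o ∈ octads ∧ none ∈ o ∧ some 0 ∈ o := by
  refine ⟨SporadicA.GolayBase.fin 13771273, (SporadicA.GolayBase.fin_mem_octads_iff (by norm_num)).2 (by decide +kernel),
    ?_, ?_⟩
  · decide +kernel
  · decide +kernel

theorem mem_of_stab {K : Subgroup (Equiv.Perm GolayPt)} {o : Finset GolayPt} (h : MulAction.stabilizer K o) (p : GolayPt)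
    (hp : p ∈ o) : ((h : K) : Equiv.Perm GolayPt) p ∈ o := by
  classical
  have h1 : (h : K) • o = o := h.2
  have h2 := Finset.smul_mem_smul_finset (a := (h : K)) hp
  rw [h1] at h2
  exact h2

theorem exists_stab {K : Subgroup (Equiv.Perm GolayPt)} {o : Finset GolayPt} {σ : Equiv.Perm GolayPt} (hσ : σ ∈ K)
    (hfix : ∀ p ∈ o, σ p = p) : ∃ h : MulAction.stabilizer K o, ((h : K) : Equiv.Perm GolayPt) = σ := by
  classical
  refine ⟨⟨⟨σ, hσ⟩, ?_⟩, rfl⟩
  rw [MulAction.mem_stabilizer_iff]
  ext p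
  rw [Finset.mem_smul_finset]
  constructor
  · rintro ⟨r, hr, rfl⟩
    change σ r ∈ o
    rw [hfix r hr]
    exact hr
  · intro hp
    exact ⟨p, hp, hfix p hp⟩

/-! ### `M24` -/

theorem elem_M24 : Elem M24 := by
  classical
  have hcard : Nat.card M24 = 244823040 := NotCT.Orders.m24 (K := M24) ⟨MulEquiv.refl _⟩
  have : Finite M24 := Nat.finite_of_card_ne_zero (by rw [hcard]; norm_num)
  obtain ⟨o, ho, -, -⟩ := exists_hexad
  have hi := H867.Max.MTwentyFour.index_octad ho
  refine elem_of_odd_index (MulAction.stabilizer M24 o) (by rw [hi]; norm_num) ?_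
  have hc : Nat.card (MulAction.stabilizer M24 o) = 322560 := by
    have h1 := (MulAction.stabilizer M24 o).card_mul_index
    rw [hi, hcard] at h1
    omega
  refine elem_of_octad (M24.subtype.comp (MulAction.stabilizer M24 o).subtype)
    (M24.subtype_injective.comp (Subgroup.subtype_injective _)) (fun h => (h : M24).2) ho mem_of_stab o
    (fun h p hp hp' => absurd hp hp') (Finset.Subset.refl _) (fun σ hσ hfix => exists_stab hσ hfix) ?_
  rw [hc, ho.2]
  decide

/-! ### `M22`, `M23` -/

theorem elem_M22 : Elem Spor.M22 := by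
  classical
  have hcard : Nat.card Spor.M22 = 443520 := NotCT.Orders.m22 (K := Spor.M22) ⟨MulEquiv.refl _⟩
  have : Finite Spor.M22 := Nat.finite_of_card_ne_zero (by rw [hcard]; norm_num)
  obtain ⟨o, ho, h1, h2⟩ := exists_hexad
  have hi := (H867.Max.MTwentyTwo.hexad ho h1 h2).2
  refine elem_of_odd_index (MulAction.stabilizer Spor.M22 o) (by rw [hi]; norm_num) ?_
  have hc : Nat.card (MulAction.stabilizer Spor.M22 o) = 5760 := by
    have h1 := (MulAction.stabilizer Spor.M22 o).card_mul_index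
    rw [hi, hcard] at h1
    omega
  have hs : ((o.erase none).erase (some 0)).card = 6 := by
    rw [Finset.card_erase_of_mem (Finset.mem_erase.2 ⟨by simp, h2⟩), Finset.card_erase_of_mem h1, ho.2]
  refine elem_of_octad (Spor.M22.subtype.comp (MulAction.stabilizer Spor.M22 o).subtype)
    (Spor.M22.subtype_injective.comp (Subgroup.subtype_injective _)) (fun h => (h : Spor.M22).2.1.1) ho mem_of_stab
    ((o.erase none).erase (some 0)) ?_ ?_ ?_ ?_
  · intro h p hp hp'
    rw [Finset.mem_erase, Finset.mem_erase] at hp'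
    by_cases h3 : p = some 0
    · rw [h3]
      exact (h : Spor.M22).2.2
    · have h4 : p = none := by
        by_contra h4
        exact hp' ⟨h3, h4, hp⟩
      rw [h4]
      exact (h : Spor.M22).2.1.2
  · exact (Finset.erase_subset _ _).trans (Finset.erase_subset _ _)
  · intro σ hσ hfix
    exact exists_stab (K := Spor.M22) ⟨⟨hσ, hfix _ h1⟩, hfix _ h2⟩ hfix
  · rw [hc, hs]
    decide

theorem elem_M23 : Elem Spor.M23 := by
  classical
  have hcard : Nat.card Spor.M23 = 10200960 := NotCT.Orders.m23 (K := Spor.M23) ⟨MulEquiv.refl _⟩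
  have hcard' : Nat.card Spor.M22 = 443520 := NotCT.Orders.m22 (K := Spor.M22) ⟨MulEquiv.refl _⟩
  have : Finite Spor.M23 := Nat.finite_of_card_ne_zero (by rw [hcard]; norm_num)
  have hle : Spor.M22 ≤ Spor.M23 := inf_le_left
  have e : Spor.M22.subgroupOf Spor.M23 ≃* Spor.M22 := Subgroup.subgroupOfEquivOfLe hle
  have : Finite Spor.M22 := Nat.finite_of_card_ne_zero (by rw [hcard']; norm_num)
  refine elem_of_odd_index (Spor.M22.subgroupOf Spor.M23) ?_ (elem_congr e.symm elem_M22)
  have h1 := (Spor.M22.subgroupOf Spor.M23).card_mul_index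
  rw [Nat.card_congr e.toEquiv, hcard, hcard'] at h1
  have h2 : (Spor.M22.subgroupOf Spor.M23).index = 23 := by omega
  rw [h2]
  norm_num

theorem elem_m22 {G : Type u} [Group G] [Finite G] (h : Cfsg.Spor.IsoM22 G) : Elem G := by
  obtain ⟨e⟩ := h
  have : Finite Spor.M22 := Finite.of_equiv _ e.toEquiv
  exact elem_congr e.symm elem_M22

theorem elem_m23 {G : Type u} [Group G] [Finite G] (h : Cfsg.Spor.IsoM23 G) : Elem G := by
  obtain ⟨e⟩ := h
  have : Finite Spor.M23 := Finite.of_equiv _ e.toEquiv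
  exact elem_congr e.symm elem_M23

theorem elem_m24 {G : Type u} [Group G] [Finite G] (h : Cfsg.Spor.IsoM24 G) : Elem G := by
  obtain ⟨e⟩ := h
  have : Finite M24 := Finite.of_equiv _ e.toEquiv
  exact elem_congr e.symm elem_M24

end Cfsg.Agent.H567.Sd
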