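import Cfsg.Agent.H567.Sd.Tools
import Cfsg.Agent.Cit.Eleven
import Cfsg.Agent.H413.JOneLocal
import Cfsg.Agent.NotCT.Orders

/-!
# S4579: `Elem` for `M₁₁` and `J₁` (helper567)

The centralizers of involutions are `GL₂(3)` and `2 × A₅`.
-/

set_option autoImplicit false

namespace Cfsg.Agent.H567.Sd

open Subgroup Cfsg
open Cfsg.Agent.H643.Sd

universe u

/-! ### `J1` -/

theorem elem_prod (A : Type*) [Group A] [Finite A] (h : Elem A) : Elem (Multiplicative (ZMod 2) × A) := by
  have h2 : ∀ a : Multiplicative (ZMod 2), a * a = 1 := by decide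
  have : Finite (MonoidHom.inr (Multiplicative (ZMod 2)) A).range := inferInstance
  refine elem_of_split (MonoidHom.snd (Multiplicative (ZMod 2)) A).ker
    (MonoidHom.inr (Multiplicative (ZMod 2)) A).range ?_ ?_ ?_
  · rintro ⟨a, b⟩ hb
    have hb' : b = 1 := hb
    rw [hb', Prod.mk_mul_mk, h2, mul_one]
    rfl
  · rintro ⟨a, b⟩
    refine ⟨(a, 1), rfl, (1, b), ⟨b, rfl⟩, ?_⟩
    rw [Prod.mk_mul_mk, mul_one, one_mul]
  · exact elem_congr (MonoidHom.ofInjective (f := MonoidHom.inr (Multiplicative (ZMod 2)) A)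
      (fun x y hxy => congrArg Prod.snd hxy)) h

theorem elem_J1 : Elem Spor.J1 := by
  have hcard : Nat.card Spor.J1 = 175560 := H413.JOneLocal.card_J1
  have : Finite Spor.J1 := Nat.finite_of_card_ne_zero (by rw [hcard]; norm_num)
  have : Fact (Nat.Prime 2) := ⟨Nat.prime_two⟩
  obtain ⟨z, hz⟩ := exists_prime_orderOf_dvd_card' (G := Spor.J1) 2 (by rw [hcard]; norm_num)
  obtain ⟨e⟩ := H413.JOneLocal.isLocal.cent z hz
  have hc : Nat.card (centralizer ({z} : Set Spor.J1)) = 120 := H413.JOneLocal.card_cent hz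
  refine elem_of_odd_index (centralizer ({z} : Set Spor.J1)) ?_ ?_
  · have h1 := (centralizer ({z} : Set Spor.J1)).card_mul_index
    rw [hc, hcard] at h1
    have h2 : (centralizer ({z} : Set Spor.J1)).index = 1463 := by omega
    rw [h2]
    norm_num
  · exact elem_congr e.symm (elem_prod _ (elem_alt 5))

theorem elem_j1 {G : Type u} [Group G] [Finite G] (h : Cfsg.Spor.IsoJ1 G) : Elem G := by
  obtain ⟨e⟩ := h
  have : Finite Spor.J1 := Finite.of_equiv _ e.toEquiv
  exact elem_congr e.symm elem_J1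

/-! ### `M11` -/

section

open Cfsg.Agent.Cit.Eleven

theorem elem_gl : Elem X := by
  have h2 : Fact (Nat.Prime 2) := ⟨Nat.prime_two⟩
  have hXf : Finite X := Nat.finite_of_card_ne_zero (by rw [card_X]; norm_num)
  have hdd : dd * dd = 1 := by decide +kernel
  have hn2 : (-1 : X) ^ 2 = 1 := by decide +kernel
  have hddQ : dd ∉ Q8 := by
    intro h
    have h1 := mem_SLs.1 (Q8_le h)
    revert h1
    decide +kernel
  have hp : IsPGroup 2 (zpowers dd) := by
    have h1 : orderOf dd = 2 := orderOf_eq_prime (by rw [pow_two]; exact hdd) (by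
      intro h
      exact hddQ (h ▸ one_mem _))
    exact IsPGroup.of_card (n := 1) (by rw [Nat.card_zpowers, h1, pow_one])
  obtain ⟨P, hP⟩ := hp.exists_le_sylow
  have hddP : dd ∈ (P : Subgroup X) := hP (mem_zpowers dd)
  have hQp : IsPGroup 2 Q8 := IsPGroup.of_card (n := 3) (by rw [card_Q8]; norm_num)
  have hQP : Q8 ≤ (P : Subgroup X) := hQp.le_sylow_of_normal P
  refine elem_of_sylow P ?_
  -- `|P| = 16`
  have hcP : Nat.card (P : Subgroup X) ∣ 16 := by
    obtain ⟨k, hk⟩ := P.isPGroup'.exists_card_eq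
    have h1 : 2 ^ k ∣ 48 := by
      rw [← hk, ← card_X]
      exact Subgroup.card_subgroup_dvd_card _
    rw [hk]
    have h3 : k ≤ 4 := by
      by_contra h4
      have h5 := (pow_dvd_pow 2 (show 5 ≤ k by omega)).trans h1
      norm_num at h5
    exact pow_dvd_pow 2 h3
  have hidx : Q8.relIndex (P : Subgroup X) = 2 := by
    have h1 := (Q8.subgroupOf (P : Subgroup X)).card_mul_index
    rw [Nat.card_congr (Subgroup.subgroupOfEquivOfLe hQP).toEquiv, card_Q8] at h1
    have h3 : Q8.relIndex (P : Subgroup X) ∣ 2 := by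
      rw [← h1] at hcP
      exact Nat.dvd_of_mul_dvd_mul_left (by norm_num : 0 < 8) hcP
    rcases (Nat.dvd_prime Nat.prime_two).1 h3 with h4 | h4
    · exact absurd (Subgroup.relIndex_eq_one.1 h4 hddP) hddQ
    · exact h4
  intro f x
  have hneg : ∀ h : (-1 : X) ∈ (P : Subgroup X), f ⟨-1, h⟩ = 1 := by
    intro h
    have hc : (-1 : X) = gi * gj * gi⁻¹ * gj⁻¹ := by decide +kernel
    have h1 : (⟨-1, h⟩ : (P : Subgroup X)) = ⟨gi, hQP gi_mem⟩ * ⟨gj, hQP gj_mem⟩ * (⟨gi, hQP gi_mem⟩)⁻¹ *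
        (⟨gj, hQP gj_mem⟩)⁻¹ := Subtype.ext hc
    rw [h1, map_mul, map_mul, map_mul, map_inv, map_inv, mul_comm (f ⟨gi, hQP gi_mem⟩) (f ⟨gj, hQP gj_mem⟩)]
    group
  have hq : ∀ q : (P : Subgroup X), (q : X) ∈ Q8 → f q ^ 2 = 1 := by
    intro q hqQ
    rw [← map_pow]
    rcases mem_Q8_iff.1 hqQ with h | h | h
    · have h1 : q ^ 2 = 1 := Subtype.ext (by rw [SubgroupClass.coe_pow, OneMemClass.coe_one, h, one_pow])
      rw [h1, map_one]
    · have h1 : q ^ 2 = 1 := Subtype.ext (by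
        rw [SubgroupClass.coe_pow, OneMemClass.coe_one, h]
        exact hn2)
      rw [h1, map_one]
    · have h1 : q ^ 2 = ⟨-1, hQP (mem_Q8_iff.2 (Or.inr (Or.inl rfl)))⟩ := Subtype.ext (by
        rw [SubgroupClass.coe_pow, pow_two, h])
      rw [h1, hneg]
  by_cases hx : (x : X) ∈ Q8
  · exact hq x hx
  · obtain ⟨d, hd⟩ : ∃ d : (P : Subgroup X), (d : X) = dd := ⟨⟨dd, hddP⟩, rfl⟩
    have h1 : ((x * d : (P : Subgroup X)) : X) ∈ Q8 := by
      have h3 : (Q8.subgroupOf (P : Subgroup X)).index = 2 := hidx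
      have h4 := (Subgroup.mul_mem_iff_of_index_two h3 (a := x) (b := d))
      rw [mem_subgroupOf, mem_subgroupOf, mem_subgroupOf, hd] at h4
      exact h4.2 ⟨fun h => absurd h hx, fun h => absurd h hddQ⟩
    have h3 := hq (x * d) h1
    have h5 : d ^ 2 = 1 := by
      apply Subtype.ext
      rw [SubgroupClass.coe_pow, OneMemClass.coe_one, pow_two, hd]
      exact hdd
    have h6 : f d ^ 2 = 1 := by rw [← map_pow, h5, map_one]
    rw [map_mul, mul_pow, h6, mul_one] at h3
    exact h3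

theorem elem_m11 {G : Type u} [Group G] [Finite G] (h : Cfsg.Spor.IsoM11 G) : Elem G := by
  have hcard := NotCT.Orders.m11 h
  have : Fact (Nat.Prime 2) := ⟨Nat.prime_two⟩
  obtain ⟨z, hz⟩ := exists_prime_orderOf_dvd_card' (G := G) 2 (by rw [hcard]; norm_num)
  obtain ⟨e⟩ := nonempty_equiv h hz
  have hc := Cfsg.Agent.Cit.Eleven.card_centralizer h hz
  have hXf : Finite X := Nat.finite_of_card_ne_zero (by rw [card_X]; norm_num)
  refine elem_of_odd_index (centralizer ({z} : Set G)) ?_ (elem_congr e.symm elem_gl)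
  have h1 := (centralizer ({z} : Set G)).card_mul_index
  rw [hc, hcard] at h1
  have h2 : (centralizer ({z} : Set G)).index = 165 := by omega
  rw [h2]
  norm_num

end

end Cfsg.Agent.H567.Sd
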